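import Cfsg.Agent.H713.Two.Sing
import Cfsg.Agent.H690.Spor.Ru

/-!
# The row of `Ru` for S4897 (helper713)

The rank 3 permutation character of degree 4060 is `1 + χ783 + χ3276`; `χ783` has defect zero for 3 and 29, `χ3276` for 7
and 13.
-/

set_option autoImplicit false
set_option linter.unusedSectionVars false
set_option maxRecDepth 100000
set_option exponentiation.threshold 5000

namespace Cfsg.Agent.H713.Two.Ru

open Cfsg Cfsg.Agent.Characters.Core Cfsg.Agent.H504.Zeros Cfsg.Agent.H504.TwoZ Cfsg.Agent.H713.Count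
open Cfsg.Agent.H713.Two.Half Cfsg.Agent.H713.Two.Sing
open Cfsg.Agent.SporadicB Cfsg.Agent.SporadicB.RuOrder Cfsg.Agent.OddHalf.Table.OutRu

/-! ### The degrees -/

theorem cand : ∀ f < 4060, f * (4059 - f) ∣ (1 + 1755 + 2304) * 1755 * 2304 →
    f ∈ [0, 27, 144, 315, 783, 1755, 2304, 3276, 3744, 3915, 4032, 4059] := by decide +kernel

theorem not_sq {n a : ℕ} (h1 : a * a < n) (h2 : n < (a + 1) * (a + 1)) : ¬ IsSquare n := by
  rintro ⟨r, rfl⟩
  have h3 : a < r := by
    by_contra h
    push Not at h
    exact absurd (Nat.mul_le_mul h h) (by omega)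
  have h4 : r < a + 1 := by
    by_contra h
    push Not at h
    exact absurd (Nat.mul_le_mul h h) (by omega)
  omega

theorem degrees {f g D : ℕ} (h1 : f + g = 1755 + 2304) (h2 : f * g * D = (1 + 1755 + 2304) * 1755 * 2304)
    (h3 : f ≠ g → IsSquare D) : (f = 783 ∧ g = 3276) ∨ (f = 3276 ∧ g = 783) := by
  have hg : g = 4059 - f := by omega
  have hne : f ≠ g := by omega
  have hD := h3 hne
  subst hg
  have h4 := cand f (by omega) ⟨D, h2.symm⟩
  simp only [List.mem_cons, List.not_mem_nil, or_false] at h4
  rcases h4 with rfl | rfl | rfl | rfl | rfl | rfl | rfl | rfl | rfl | rfl | rfl | rfl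
  · simp at h2
  · exact absurd hD (by
      have : D = 150800 := by omega
      subst this
      exact not_sq (a := 388) (by norm_num) (by norm_num))
  · exact absurd hD (by
      have : D = 29120 := by omega
      subst this
      exact not_sq (a := 170) (by norm_num) (by norm_num))
  · exact absurd hD (by
      have : D = 13920 := by omega
      subst this
      exact not_sq (a := 117) (by norm_num) (by norm_num))
  · exact Or.inl ⟨rfl, rfl⟩
  · exact absurd hD (by
      have : D = 4060 := by omega
      subst this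
      exact not_sq (a := 63) (by norm_num) (by norm_num))
  · exact absurd hD (by
      have : D = 4060 := by omega
      subst this
      exact not_sq (a := 63) (by norm_num) (by norm_num))
  · exact Or.inr ⟨rfl, rfl⟩
  · exact absurd hD (by
      have : D = 13920 := by omega
      subst this
      exact not_sq (a := 117) (by norm_num) (by norm_num))
  · exact absurd hD (by
      have : D = 29120 := by omega
      subst this
      exact not_sq (a := 170) (by norm_num) (by norm_num))
  · exact absurd hD (by
      have : D = 150800 := by omega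
      subst this
      exact not_sq (a := 388) (by norm_num) (by norm_num))
  · simp at h2

theorem exists_783 : ∃ χ₁ χ₂ : IrrCharacter H, charDegree (χ₁ : H → ℂ) = 783 ∧ charDegree (χ₂ : H → ℂ) = 3276 := by
  classical
  have hfin : Finite H := Cfsg.Agent.H690.Spor.Ru.instFiniteH
  obtain ⟨R, hR⟩ := Cfsg.Agent.H690.Spor.Ru.r3
  obtain ⟨χ₁, χ₂, f, g, D, hf, hg, -, h1, h2, h3⟩ := hR.frame
  have hdf : charDegree (χ₁ : H → ℂ) = f := Cfsg.Agent.Blocks.Basic.charDegree_of_eq hf
  have hdg : charDegree (χ₂ : H → ℂ) = g := Cfsg.Agent.Blocks.Basic.charDegree_of_eq hg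
  rcases degrees h1 h2 h3 with ⟨rfl, rfl⟩ | ⟨rfl, rfl⟩
  · exact ⟨χ₁, χ₂, hdf, hdg⟩
  · exact ⟨χ₂, χ₁, hdg, hdf⟩

/-! ### Elements -/

theorem ne_pow {w : List ℕ} {n : ℕ} (h : Nat.beq (ev (rep n w) 0) (ev [] 0) = false) : W w ^ n ≠ 1 := by
  rw [← W_rep, ← W_nil]
  exact ne_of_ev h

theorem pow_eq {w : List ℕ} {n : ℕ} (h : eqw (rep n w) [] = true) : W w ^ n = 1 := by
  rw [← W_rep, eqw_sound h, W_nil]

theorem orderOf_word {w : List ℕ} {n : ℕ} (hn : 0 < n) (h : eqw (rep n w) [] = true)
    (h' : ∀ p ∈ n.primeFactors, Nat.beq (ev (rep (n / p) w) 0) (ev [] 0) = false) : orderOf (W w) = n :=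
  orderOf_eq_of_pow_and_pow_div_prime hn (pow_eq h) fun p hp hd =>
    ne_pow (h' p (Nat.mem_primeFactors.2 ⟨hp, hd, hn.ne'⟩))

theorem w15 : orderOf (W [0, 8]) = 15 := by
  refine orderOf_word (by norm_num) (by decide +kernel) ?_
  rw [show (15 : ℕ).primeFactors = {3, 5} by decide +kernel]
  intro p hp
  rw [Finset.mem_insert, Finset.mem_singleton] at hp
  rcases hp with rfl | rfl <;> decide +kernel

theorem w12 : orderOf (W [0, 9]) = 12 := by
  refine orderOf_word (by norm_num) (by decide +kernel) ?_
  rw [show (12 : ℕ).primeFactors = {2, 3} by decide +kernel]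
  intro p hp
  rw [Finset.mem_insert, Finset.mem_singleton] at hp
  rcases hp with rfl | rfl <;> decide +kernel

theorem w26 : orderOf (W [0, 4, 6]) = 26 := by
  refine orderOf_word (by norm_num) (by decide +kernel) ?_
  rw [show (26 : ℕ).primeFactors = {2, 13} by decide +kernel]
  intro p hp
  rw [Finset.mem_insert, Finset.mem_singleton] at hp
  rcases hp with rfl | rfl <;> decide +kernel

theorem fac {a b : ℕ} {p : ℕ} (h : a.factorization p = b.factorization p) {χ : H → ℂ} (hd : charDegree χ = a)
    (hb : Nat.card H = b) : (charDegree χ).factorization p = (Nat.card H).factorization p := by rw [hd, hb, h]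

theorem factorization_of {p n m : ℕ} (hp : p.Prime) (hn : m % p ≠ 0) : (p ^ n * m).factorization p = n := by
  have hm : m ≠ 0 := fun h => hn (by rw [h]; exact Nat.zero_mod p)
  rw [Nat.factorization_mul (pow_ne_zero _ hp.ne_zero) hm, Finsupp.add_apply, hp.factorization_pow,
    Finsupp.single_eq_same, Nat.factorization_eq_zero_of_not_dvd (fun h => hn (Nat.mod_eq_zero_of_dvd h)), add_zero]

theorem f3 : (783 : ℕ).factorization 3 = (145926144000 : ℕ).factorization 3 := by
  rw [show (783 : ℕ) = 3 ^ 3 * 29 by norm_num, factorization_of (by norm_num) (by norm_num),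
    show (145926144000 : ℕ) = 3 ^ 3 * 5404672000 by norm_num, factorization_of (by norm_num) (by norm_num)]

theorem f29 : (783 : ℕ).factorization 29 = (145926144000 : ℕ).factorization 29 := by
  rw [show (783 : ℕ) = 29 ^ 1 * 27 by norm_num, factorization_of (by norm_num) (by norm_num),
    show (145926144000 : ℕ) = 29 ^ 1 * 5031936000 by norm_num, factorization_of (by norm_num) (by norm_num)]

theorem f7 : (3276 : ℕ).factorization 7 = (145926144000 : ℕ).factorization 7 := by
  rw [show (3276 : ℕ) = 7 ^ 1 * 468 by norm_num, factorization_of (by norm_num) (by norm_num),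
    show (145926144000 : ℕ) = 7 ^ 1 * 20846592000 by norm_num, factorization_of (by norm_num) (by norm_num)]

theorem f13 : (3276 : ℕ).factorization 13 = (145926144000 : ℕ).factorization 13 := by
  rw [show (3276 : ℕ) = 13 ^ 1 * 252 by norm_num, factorization_of (by norm_num) (by norm_num),
    show (145926144000 : ℕ) = 13 ^ 1 * 11225088000 by norm_num, factorization_of (by norm_num) (by norm_num)]

theorem card_out : Nat.card (Out H) = 1 := by
  have h : (MulAut.conj : H →* MulAut H).range = ⊤ := by
    rw [eq_top_iff]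
    intro α _
    obtain ⟨g, hg⟩ := inner α
    exact ⟨g, hg.symm⟩
  rw [← Subgroup.index_eq_one] at h
  exact h

/-- **`Ru`** -/
theorem ru_model : RowT ↥H := by
  classical
  have hfin : Finite H := Cfsg.Agent.H690.Spor.Ru.instFiniteH
  have h3 : Fact (Nat.Prime 3) := ⟨by norm_num⟩
  have h7 : Fact (Nat.Prime 7) := ⟨by norm_num⟩
  have h13 : Fact (Nat.Prime 13) := ⟨by norm_num⟩
  have h29 : Fact (Nat.Prime 29) := ⟨by norm_num⟩
  obtain ⟨χ, ψ, hχ, hψ⟩ := exists_783
  have hne : χ ≠ ψ := by
    rintro rfl
    omega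
  have d3 := fac f3 hχ card_H
  have d29 := fac f29 hχ card_H
  have d7 := fac f7 hψ card_H
  have d13 := fac f13 hψ card_H
  have o7 : orderOf (f ^ 2) = 7 := by rw [orderOf_pow, orderOf_f]; norm_num
  refine ⟨Or.inl ⟨χ, ψ, hne, ?_, ?_⟩, ?_⟩
  · refine three_le_zc (a := W [0, 8]) (b := W [0, 9]) (c := x) (not_isConj_of_order (by rw [w15, w12]; norm_num))
      (not_isConj_of_order (by rw [w15, orderOf_x]; norm_num)) (not_isConj_of_order (by rw [w12, orderOf_x]; norm_num))
      ?_ ?_ ?_
    · exact irr_zero_of_singular d3 (by rw [w15]; norm_num)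
    · exact irr_zero_of_singular d3 (by rw [w12]; norm_num)
    · exact irr_zero_of_singular d29 (by rw [orderOf_x])
  · refine three_le_zc (a := f) (b := f ^ 2) (c := W [0, 4, 6]) (not_isConj_of_order (by rw [orderOf_f, o7]; norm_num))
      (not_isConj_of_order (by rw [orderOf_f, w26]; norm_num)) (not_isConj_of_order (by rw [o7, w26]; norm_num))
      ?_ ?_ ?_
    · exact irr_zero_of_singular d7 (by rw [orderOf_f]; norm_num)
    · exact irr_zero_of_singular d7 (by rw [o7])
    · exact irr_zero_of_singular d13 (by rw [w26]; norm_num)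
  · rintro G _ _ N _ ⟨e⟩ hC - hN
    exfalso
    have h1 := index_le_out e hC
    have h2 : Nat.card (Out H) = 1 := card_out
    have h4 : N.index ≠ 0 := Subgroup.index_ne_zero_of_finite
    exact hN (Subgroup.index_eq_one.1 (by omega))

/-- **`Ru`** -/
theorem ru {S : Type} [Group S] (h : Cfsg.Spor.IsoRu S) : RowT S := by
  obtain ⟨e⟩ := h
  have e' := e.trans Cfsg.Agent.RuLat.Main.equiv
  have hfin : Finite S := Nat.finite_of_card_ne_zero (by
    rw [Nat.card_congr e'.toEquiv]
    rw [card_H]; norm_num)
  exact RowT.of_equiv e' ru_model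

end Cfsg.Agent.H713.Two.Ru
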