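import Cfsg.Agent.H713.Two.Sing
import Cfsg.Agent.H713.Spor.McL
import Cfsg.Agent.H904.HSIso
import Cfsg.Agent.H904.McLCent
import Cfsg.Agent.H489.OutSpor
import Cfsg.Agent.H153.ZerosMcL
import Cfsg.Agent.H153.ZerosHS

/-!
# The rows of `HS` and `McL` for S4897 (helper713)

The characters of degree 22 vanish at elements of orders 6, 8, 11 of `M22`; the character of degree 77 of `HS` has defect
zero for 7 and 11, the one of degree 252 of `McL` for 7.
-/

set_option autoImplicit false
set_option linter.unusedSectionVars false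

namespace Cfsg.Agent.H713.Two.HSMcL

open Cfsg Cfsg.Agent.Characters.Core Cfsg.Agent.H504.Zeros Cfsg.Agent.H504.TwoZ Cfsg.Agent.H713.Count
open Cfsg.Agent.H713.Two.Half Cfsg.Agent.H713.Two.Sing
open Cfsg.Agent.H419.LeechIrr Cfsg.Agent.H419.LeechFix Cfsg.Agent.H419.Spor.Mathieu
open Cfsg.Agent.SporadicA.Co0Mono Cfsg.Agent.SporadicA.Co1Simple
open Cfsg.Agent.Blocks.Basic (irr_one_eq_charDegree charDegree_pos)

/-! ### Elements of `M22` -/

noncomputable def z8 : Spor.M22 := ⟨T * cubeTwist * T * cubeTwist * T * M,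
  ⟨mul_mem (mul_mem (mul_mem (mul_mem (mul_mem T_mem C_mem) T_mem) C_mem) T_mem) M_mem, by
      show (T * cubeTwist * T * cubeTwist * T * M) none = none
      decide +kernel⟩, by
      show (T * cubeTwist * T * cubeTwist * T * M) (some 0) = some 0
      decide +kernel⟩

theorem z8_order : orderOf z8 = 8 := by
  refine orderOf_eq (by norm_num) ?_ ?_
  · apply Subtype.ext
    show (T * cubeTwist * T * cubeTwist * T * M) ^ 8 = 1
    apply Equiv.ext
    decide +kernel
  · intro p hp h
    have h1 : (T * cubeTwist * T * cubeTwist * T * M) ^ (8 / p) = 1 := congrArg (fun z => z.1) h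
    have h2 := Equiv.ext_iff.1 h1
    have h3 : p = 2 := by
      have : p ∈ ({2} : Finset ℕ) := by
        rw [show ({2} : Finset ℕ) = (8 : ℕ).primeFactors by decide +kernel]
        exact hp
      simpa using this
    subst h3
    revert h2
    decide +kernel

noncomputable def z11 : Spor.M22 := ⟨M, ⟨M_mem, by
      show M none = none
      decide +kernel⟩, by
      show M (some 0) = some 0
      decide +kernel⟩

theorem z11_order : orderOf z11 = 11 := by
  refine orderOf_eq (by norm_num) ?_ ?_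
  · apply Subtype.ext
    show M ^ 11 = 1
    apply Equiv.ext
    decide +kernel
  · intro p hp h
    have h1 : M ^ (11 / p) = 1 := congrArg (fun z => z.1) h
    have h2 := Equiv.ext_iff.1 h1
    have h3 : p = 11 := by
      have : p ∈ ({11} : Finset ℕ) := by
        rw [show ({11} : Finset ℕ) = (11 : ℕ).primeFactors by decide +kernel]
        exact hp
      simpa using this
    subst h3
    revert h2
    decide +kernel

/-- elements of `St2` -/
noncomputable def y8 : St2 := Cfsg.Agent.H419.Spor.HS.e2.symm z8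
noncomputable def y11 : St2 := Cfsg.Agent.H419.Spor.HS.e2.symm z11
noncomputable abbrev y6 : St2 := Cfsg.Agent.H419.Spor.HS.y6

theorem y8_order : orderOf y8 = 8 := by rw [y8, MulEquiv.orderOf_eq, z8_order]
theorem y11_order : orderOf y11 = 11 := by rw [y11, MulEquiv.orderOf_eq, z11_order]

theorem y8_fix : Nat.card (MulAction.fixedBy GolayPt ((y8 : St1) : M24)) = 2 := by
  have h : ∀ p : GolayPt, (T * cubeTwist * T * cubeTwist * T * M) p = p ↔ p = none ∨ p = some 0 := by
    decide +kernel
  have h1 : MulAction.fixedBy GolayPt ((y8 : St1) : M24) = {none, some 0} := by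
    ext p
    exact h p
  rw [h1, Nat.card_coe_set_eq, Set.ncard_pair (by simp)]

theorem y11_fix : Nat.card (MulAction.fixedBy GolayPt ((y11 : St1) : M24)) = 2 := by
  have h : ∀ p : GolayPt, M p = p ↔ p = none ∨ p = some 0 := by
    decide +kernel
  have h1 : MulAction.fixedBy GolayPt ((y11 : St1) : M24) = {none, some 0} := by
    ext p
    exact h p
  rw [h1, Nat.card_coe_set_eq, Set.ncard_pair (by simp)]

/-- zeros of the character of degree 22 -/
theorem zero_of {G : Type*} [Group G] {f : G →* Co0} {μ : IrrCharacter G}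
    (hμ : ∀ g, lchi f g = ((2 : ℕ) : ℂ) + (μ : G → ℂ) g) {s : St2} {g : G}
    (hg : f g = permCo0 ((s : St1) : M24))
    (hs : Nat.card (MulAction.fixedBy GolayPt ((s : St1) : M24)) = 2) : (μ : G → ℂ) g = 0 := by
  have h1 := hμ g
  rw [lchi_perm f hg, hs] at h1
  linear_combination -h1

theorem orderOf_of {G : Type*} [Group G] (k : St2 →* G) (f : G →* Co0)
    (hf : ∀ s : St2, f (k s) = permCo0 ((s : St1) : M24)) (s : St2) : orderOf (k s) = orderOf s := by
  refine orderOf_injective k ?_ s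
  intro a b hab
  have h1 : permCo0 ((a : St1) : M24) = permCo0 ((b : St1) : M24) := by rw [← hf, ← hf, hab]
  exact Subtype.ext (Subtype.ext (Cfsg.Agent.CoOneType.Thirteen.permCo0_injective h1))

/-- the degree is a multiple of `p ^ n` -/
theorem dz_fac {S : Type*} [Group S] [Finite S] {p : ℕ} (χ : IrrCharacter S) {d c : ℕ}
    (hd : charDegree (χ : S → ℂ) = d) (hc : Nat.card S = c) (h : d.factorization p = c.factorization p) :
    (charDegree (χ : S → ℂ)).factorization p = (Nat.card S).factorization p := by rw [hd, hc, h]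

/-- three orders -/
theorem three_of_orders {G : Type*} [Group G] [Finite G] {χ : IrrCharacter G} {a b c : G} {l m n : ℕ}
    (ha : orderOf a = l) (hb : orderOf b = m) (hc : orderOf c = n) (h1 : l ≠ m) (h2 : l ≠ n) (h3 : m ≠ n)
    (za : (χ : G → ℂ) a = 0) (zb : (χ : G → ℂ) b = 0) (zc' : (χ : G → ℂ) c = 0) : 3 ≤ zc χ :=
  three_le_zc (not_isConj_of_order (by rw [ha, hb]; exact h1)) (not_isConj_of_order (by rw [ha, hc]; exact h2))
    (not_isConj_of_order (by rw [hb, hc]; exact h3)) za zb zc'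

theorem not_comm_of_cent {G : Type*} [Group G] [Finite G] {x : G} {m : ℕ}
    (hc : Nat.card (Subgroup.centralizer ({x} : Set G)) = m) (hm : Nat.card G ≠ m) : ¬ IsMulCommutative G := by
  intro h
  apply hm
  rw [← hc]
  have h1 : Subgroup.centralizer ({x} : Set G) = ⊤ := by
    rw [eq_top_iff]
    intro y _
    rw [Subgroup.mem_centralizer_singleton_iff]
    exact h.is_comm.comm y x
  rw [h1]
  exact (Nat.card_congr Subgroup.topEquiv.toEquiv).symm

section

open Cfsg.Agent.H713.Spor.HS Cfsg.Agent.SporadicRecognition.HSRank Cfsg.Agent.SporadicRecognition.HSParam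

/-- **`HS`** -/
theorem hs_model : RowT ↥(K V W) := by
  classical
  have h11 : Fact (Nat.Prime 11) := ⟨by norm_num⟩
  have h7 : Fact (Nat.Prime 7) := ⟨by norm_num⟩
  obtain ⟨hsimple, hcard⟩ := facts
  have hfin : Finite ↥(K V W) := Nat.finite_of_card_ne_zero (by rw [hcard]; norm_num)
  have hiso : Spor.IsoHS ↥(K V W) := ⟨hsEquiv.symm⟩
  obtain ⟨μ, hμ1, hμ⟩ := exists_22
  have hμd : charDegree (μ : ↥(K V W) → ℂ) = 22 := by
    have := degree_of_lchi hμ
    omega
  obtain ⟨χ, hχ⟩ := exists_77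
  have hne : μ ≠ χ := by
    rintro rfl
    omega
  let k : St2 →* ↥(K V W) := hsEquiv.toMonoidHom.comp Cfsg.Agent.H419.Spor.HS.k
  have hk : ∀ s : St2, (K V W).subtype (k s) = permCo0 ((s : St1) : M24) := fun s => rfl
  have ho := orderOf_of k (K V W).subtype hk
  have z6 : (μ : ↥(K V W) → ℂ) (k y6) = 0 := zero_of hμ (hk _) Cfsg.Agent.H419.Spor.HS.y6_fix
  have z8 : (μ : ↥(K V W) → ℂ) (k y8) = 0 := zero_of hμ (hk _) y8_fix
  have z11 : (μ : ↥(K V W) → ℂ) (k y11) = 0 := zero_of hμ (hk _) y11_fix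
  have o6 : orderOf (k y6) = 6 := (ho _).trans Cfsg.Agent.H419.Spor.HS.y6_order
  have o8 : orderOf (k y8) = 8 := (ho _).trans y8_order
  have o11 : orderOf (k y11) = 11 := (ho _).trans y11_order
  obtain ⟨x7, hx7⟩ := exists_prime_orderOf_dvd_card' (G := ↥(K V W)) 7 (by rw [hcard]; norm_num)
  have c11 := Cfsg.Agent.H904.HSIso.card_eleven hiso o11
  have c7 := Cfsg.Agent.H904.HSIso.card_seven hiso hx7
  have hna : ¬ IsMulCommutative ↥(K V W) := not_comm_of_cent c11 (by rw [hcard]; norm_num)
  have f11 : (Nat.card ↥(K V W)).factorization 11 = 1 := by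
    rw [hcard]; exact factorization_eq_one (by norm_num) (by norm_num)
  have f7 : (Nat.card ↥(K V W)).factorization 7 = 1 := by
    rw [hcard]; exact factorization_eq_one (by norm_num) (by norm_num)
  have dμ : (charDegree (μ : ↥(K V W) → ℂ)).factorization 11 = (Nat.card ↥(K V W)).factorization 11 := by
    rw [f11, hμd]; exact factorization_eq_one (by norm_num) (by norm_num)
  have dχ : (charDegree (χ : ↥(K V W) → ℂ)).factorization 11 = (Nat.card ↥(K V W)).factorization 11 := by
    rw [f11, hχ]; exact factorization_eq_one (by norm_num) (by norm_num)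
  have dχ' : (charDegree (χ : ↥(K V W) → ℂ)).factorization 7 = (Nat.card ↥(K V W)).factorization 7 := by
    rw [f7, hχ]; exact factorization_eq_one (by norm_num) (by norm_num)
  have w7 : (χ : ↥(K V W) → ℂ) x7 = 0 := irr_zero_of_singular dχ' (by rw [hx7])
  have w11 : (χ : ↥(K V W) → ℂ) (k y11) = 0 := irr_zero_of_singular dχ (by rw [o11])
  have hrat : ∀ j : ℕ, ¬ 7 ∣ j → IsConj x7 (x7 ^ j) := fun j hj => by
    refine isConj_pow_of_full (p := 7) hx7 ?_ hj
    exact card_fus_eq f7 hx7 c7 (by rw [hcard])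
  refine ⟨Or.inl ⟨μ, χ, hne, three_of_orders o6 o8 o11 (by norm_num) (by norm_num) (by norm_num) z6 z8 z11, ?_⟩, ?_⟩
  · have hi : ¬ IsConj (k y11) (k y11)⁻¹ :=
      not_isConj_inv_of_odd f11 o11 c11 (by norm_num) (by rw [hcard]; decide)
    refine three_le_zc (not_isConj_of_order (by rw [hx7, o11]; norm_num))
      (not_isConj_of_order (by rw [hx7, orderOf_inv, o11]; norm_num)) hi w7 w11 ?_
    exact irr_zero_of_singular dχ (by rw [orderOf_inv, o11])
  · refine row2_of_half (Cfsg.Agent.H489.card_out_sporadic (by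
      simp only [IsSporadicGroup, hiso, true_or, or_true])) fun G _ _ N _ hN e => ?_
    refine two_of_pair e (θ₁ := μ) (θ₂ := χ) (by rw [hμd, hχ]; norm_num) (fun ψ hψ => ?_) fun ψ hψ => ?_
    · exact zc_of_over hN e hna (fun φ => dz_zero dμ (by rw [o11]) φ) hψ fun hext =>
        zc_of_three e (by rw [o6, o8]; norm_num) (by rw [o6, o11]; norm_num) (by rw [o8, o11]; norm_num) z6 z8 z11 hext
    · exact zc_of_over hN e hna (fun φ => dz_zero dχ (by rw [o11]) φ) hψ fun hext =>
        zc_of_dz (p := 7) hN (by norm_num) e dχ' f7 hx7 hrat (by rw [hx7, o11]; norm_num) w11 hext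

end

/-- **`HS`** -/
theorem hs {S : Type} [Group S] (h : Cfsg.Spor.IsoHS S) : RowT S := by
  obtain ⟨e⟩ := h
  obtain ⟨hsimple, hcard⟩ := Cfsg.Agent.H713.Spor.HS.facts
  have e' := e.trans Cfsg.Agent.SporadicRecognition.HSRank.hsEquiv
  have hfin : Finite S := Nat.finite_of_card_ne_zero (by
    rw [Nat.card_congr e'.toEquiv]
    rw [hcard]; norm_num)
  exact RowT.of_equiv e' hs_model

section

open Cfsg.Agent.H713.Spor.McL Cfsg.Agent.SporadicRecognition.HSRank

theorem cent_of {G : Type*} [Group G] (x : G) : Subgroup.centralizer ((Subgroup.zpowers x : Subgroup G) : Set G) =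
    Subgroup.centralizer ({x} : Set G) := by
  rw [Subgroup.zpowers_eq_closure, Subgroup.centralizer_closure]

/-- **`McL`** -/
theorem mcl_model : RowT ↥(K (-Spor.leechV) Spor.leechU) := by
  classical
  have h11 : Fact (Nat.Prime 11) := ⟨by norm_num⟩
  have h7 : Fact (Nat.Prime 7) := ⟨by norm_num⟩
  obtain ⟨hsimple, hcard⟩ := facts
  have hfin : Finite ↥(K (-Spor.leechV) Spor.leechU) := Nat.finite_of_card_ne_zero (by rw [hcard]; norm_num)
  have hiso : Spor.IsoMcL ↥(K (-Spor.leechV) Spor.leechU) := ⟨mclEquiv.symm⟩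
  obtain ⟨μ, hμ1, hμ⟩ := exists_22
  have hμd : charDegree (μ : ↥(K (-Spor.leechV) Spor.leechU) → ℂ) = 22 := by
    have := Cfsg.Agent.H713.Spor.HS.degree_of_lchi hμ
    omega
  obtain ⟨χ, hχ⟩ := exists_252
  have hne : μ ≠ χ := by
    rintro rfl
    omega
  have hk : ∀ s : St2, (K (-Spor.leechV) Spor.leechU).subtype (k s) = permCo0 ((s : St1) : M24) := fun s => rfl
  have ho := orderOf_of k (K (-Spor.leechV) Spor.leechU).subtype hk
  have z6 : (μ : ↥(K (-Spor.leechV) Spor.leechU) → ℂ) (k y6) = 0 := zero_of hμ (hk _) Cfsg.Agent.H419.Spor.HS.y6_fix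
  have z8 : (μ : ↥(K (-Spor.leechV) Spor.leechU) → ℂ) (k y8) = 0 := zero_of hμ (hk _) y8_fix
  have z11 : (μ : ↥(K (-Spor.leechV) Spor.leechU) → ℂ) (k y11) = 0 := zero_of hμ (hk _) y11_fix
  have o6 : orderOf (k y6) = 6 := (ho _).trans Cfsg.Agent.H419.Spor.HS.y6_order
  have o8 : orderOf (k y8) = 8 := (ho _).trans y8_order
  have o11 : orderOf (k y11) = 11 := (ho _).trans y11_order
  obtain ⟨x14, hx14⟩ := Cfsg.Agent.H153.Zeros.mcl_orders hiso 14 (by simp)
  have hx7 : orderOf (x14 ^ 2) = 7 := by rw [orderOf_pow, hx14]; norm_num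
  have f11 : (Nat.card ↥(K (-Spor.leechV) Spor.leechU)).factorization 11 = 1 := by
    rw [hcard]; exact factorization_eq_one (by norm_num) (by norm_num)
  have f7 : (Nat.card ↥(K (-Spor.leechV) Spor.leechU)).factorization 7 = 1 := by
    rw [hcard]; exact factorization_eq_one (by norm_num) (by norm_num)
  have dμ : (charDegree (μ : ↥(K (-Spor.leechV) Spor.leechU) → ℂ)).factorization 11 =
      (Nat.card ↥(K (-Spor.leechV) Spor.leechU)).factorization 11 := by
    rw [f11, hμd]; exact factorization_eq_one (by norm_num) (by norm_num)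
  have dχ : (charDegree (χ : ↥(K (-Spor.leechV) Spor.leechU) → ℂ)).factorization 7 =
      (Nat.card ↥(K (-Spor.leechV) Spor.leechU)).factorization 7 := by
    rw [f7, hχ]; exact factorization_eq_one (by norm_num) (by norm_num)
  have w7 : (χ : ↥(K (-Spor.leechV) Spor.leechU) → ℂ) (x14 ^ 2) = 0 := irr_zero_of_singular dχ (by rw [hx7])
  have w14 : (χ : ↥(K (-Spor.leechV) Spor.leechU) → ℂ) x14 = 0 :=
    irr_zero_of_singular dχ (by rw [hx14]; norm_num)
  -- the centralizer of the element of order 7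
  have c7 : Nat.card (Subgroup.centralizer ({x14 ^ 2} : Set ↥(K (-Spor.leechV) Spor.leechU))) = 7 * 2 := by
    have h1 := (Cfsg.Agent.H904.McLCent.seven hiso (Subgroup.zpowers (x14 ^ 2))
      (by rw [Nat.card_zpowers, hx7])).1
    rw [cent_of] at h1
    refine Nat.dvd_antisymm h1 ?_
    have h2 : x14 ∈ Subgroup.centralizer ({x14 ^ 2} : Set ↥(K (-Spor.leechV) Spor.leechU)) :=
      Subgroup.mem_centralizer_singleton_iff.2 (by rw [← pow_succ', ← pow_succ])
    have h3 := Subgroup.orderOf_dvd_natCard _ h2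
    rwa [hx14] at h3
  have hna : ¬ IsMulCommutative ↥(K (-Spor.leechV) Spor.leechU) := not_comm_of_cent c7 (by rw [hcard]; norm_num)
  have hi : ¬ IsConj (x14 ^ 2) (x14 ^ 2)⁻¹ := by
    intro hinv
    have hxp : (x14 ^ 2) ^ 7 = 1 := by rw [← hx7]; exact pow_orderOf_eq_one _
    have e1 := even_fus (p := 7) hxp (by norm_num) hinv
    have e2 := Cfsg.Agent.H713.card_fus_mul f7 hx7 c7
    have e3 := card_fus_mul_card_sing (p := 7) hxp
    have e4 : (fus (p := 7) (x14 ^ 2)).card ∣ 6 := ⟨_, e3.symm⟩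
    have e5 := Nat.le_of_dvd (by norm_num) e4
    have e6 : ((fus (p := 7) (x14 ^ 2)).card * 2) % 7 = 6 := by
      have := e2
      rw [hcard] at this
      exact this
    obtain ⟨m, hm⟩ := e1
    omega
  refine ⟨Or.inl ⟨μ, χ, hne, three_of_orders o6 o8 o11 (by norm_num) (by norm_num) (by norm_num) z6 z8 z11, ?_⟩, ?_⟩
  · refine three_le_zc hi (not_isConj_of_order (by rw [hx7, hx14]; norm_num))
      (not_isConj_of_order (by rw [orderOf_inv, hx7, hx14]; norm_num)) w7 ?_ w14
    exact irr_zero_of_singular dχ (by rw [orderOf_inv, hx7])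
  · refine row2_of_half (Cfsg.Agent.H489.card_out_sporadic (by
      simp only [IsSporadicGroup, hiso, true_or, or_true])) fun G _ _ N _ hN e => ?_
    refine two_of_pair e (θ₁ := μ) (θ₂ := χ) (by rw [hμd, hχ]; norm_num) (fun ψ hψ => ?_) fun ψ hψ => ?_
    · exact zc_of_over hN e hna (fun φ => dz_zero dμ (by rw [o11]) φ) hψ fun hext =>
        zc_of_three e (by rw [o6, o8]; norm_num) (by rw [o6, o11]; norm_num) (by rw [o8, o11]; norm_num) z6 z8 z11 hext
    · exact zc_of_over hN e hna (fun φ => dz_zero dχ (by rw [hx7]) φ) hψ fun hext =>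
        zc_of_even hN e (by rw [hχ]; norm_num) (fun φ h => by
          have h1 := congrArg orderOf h
          rw [MulEquiv.orderOf_eq, hx7, hx14] at h1
          norm_num at h1) w7 w14 hext

end

/-- **`McL`** -/
theorem mcl {S : Type} [Group S] (h : Cfsg.Spor.IsoMcL S) : RowT S := by
  obtain ⟨e⟩ := h
  obtain ⟨hsimple, hcard⟩ := Cfsg.Agent.H713.Spor.McL.facts
  have e' := e.trans Cfsg.Agent.H713.Spor.McL.mclEquiv
  have hfin : Finite S := Nat.finite_of_card_ne_zero (by
    rw [Nat.card_congr e'.toEquiv]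
    rw [hcard]; norm_num)
  exact RowT.of_equiv e' mcl_model

end Cfsg.Agent.H713.Two.HSMcL
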