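import Cfsg.Agent.H713.Two.HeClasses
import Cfsg.Agent.H713.Two.Sing
import Cfsg.Agent.H710.Spor.He
import Cfsg.Agent.H489.OutSpor
import Cfsg.Agent.S4558

/-!
# The row of `He` for S4897 (helper713)

At least 29 classes; at most 10 irreducible characters do not vanish on the elements of order 17, at most 16 do not
vanish at `x8`: three characters vanish at both; their degrees are even.
-/

set_option autoImplicit false
set_option linter.unusedSectionVars false

namespace Cfsg.Agent.H713.Two.HeRow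

open Cfsg Cfsg.Agent.Characters.Core Cfsg.Agent.H504.Zeros Cfsg.Agent.H504.TwoZ Cfsg.Agent.H713.Count
open Cfsg.Agent.H713.Two.Half Cfsg.Agent.H713.Two.Sing Cfsg.Agent.H504.ZeroTI
open Cfsg.Agent.SporadicB.HePerm Cfsg.Agent.FixBN.HeStab
open Cfsg.Agent.H153.Zeros.He17 (W17 o17 card_cent_eq)
open Cfsg.Agent.H710.Spor.HeCent (x8 card_cent8)

theorem nonempty_card {α : Type*} {s : Finset α} (h : s.card = 2) : ∃ a ∈ s, ∃ b ∈ s, a ≠ b := by
  classical
  obtain ⟨a, b, hab, hs⟩ := Finset.card_eq_two.1 h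
  rw [hs]
  exact ⟨a, by simp, b, by simp, hab⟩

/-- **`He`** -/
theorem he_model : RowT Cfsg.Spor.He := by
  classical
  have hfin : Finite Cfsg.Spor.He := finite_he
  have := finite_irr (G := Cfsg.Spor.He)
  have := Fintype.ofFinite (IrrCharacter Cfsg.Spor.He)
  have h17 : Fact (Nat.Prime 17) := ⟨by norm_num⟩
  have h2 : Fact (Nat.Prime 2) := ⟨by norm_num⟩
  have hiso : Spor.IsoHe Cfsg.Spor.He := ⟨MulEquiv.refl _⟩
  have o8 : orderOf x8 = 8 := Cfsg.Agent.H710.Spor.He.o8
  -- the subgroup of order 17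
  have hA : CC (Subgroup.zpowers (wd W17)) := cc_of_prime (by norm_num) o17 card_cent_eq
  have cA : Nat.card (Subgroup.zpowers (wd W17)) = 17 := by rw [Nat.card_zpowers, o17]
  have he : eIdx (Subgroup.zpowers (wd W17)) = 8 := by
    rw [eIdx_eq_mod hA (by rw [cA]; norm_num) (n := 237081600) (by rw [card_he, cA]), cA]
  obtain ⟨s, hs, hs2, hsA⟩ := exists_reps (m := 2) hA (by rw [cA, he])
  have hord : ∀ a ∈ Subgroup.zpowers (wd W17), a ≠ 1 → orderOf a = 17 := by
    intro a ha ha1
    have h1 : orderOf a ∣ 17 := by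
      have := orderOf_dvd_natCard (⟨a, ha⟩ : Subgroup.zpowers (wd W17))
      rwa [← Subgroup.orderOf_coe, cA] at this
    rcases (Nat.dvd_prime (by norm_num)).1 h1 with h | h
    · exact absurd (orderOf_eq_one_iff.1 h) ha1
    · exact h
  have hk : 29 ≤ Nat.card (ConjClasses Cfsg.Spor.He) := by
    obtain ⟨a, ha, b, hb, hab⟩ := nonempty_card hs2
    have hnc : ¬ IsConj a b := fun h => hab (hs a ha b hb h)
    by_cases hca : IsConj (wd W17) a
    · exact Cfsg.Agent.H713.Two.HeClasses.classes_of (hord b (hsA b hb).1 (hsA b hb).2)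
        fun h => hnc (hca.symm.trans h)
    · exact Cfsg.Agent.H713.Two.HeClasses.classes_of (hord a (hsA a ha).1 (hsA a ha).2) hca
  have hnv8 : nv x8 ≤ 16 := (nv_le_card_centralizer x8).trans card_cent8
  refine ⟨Or.inl (two_of_ti_col (m := 2) hA he (by norm_num) (by rw [cA]) x8 (fun a ha ha1 h => ?_) hnv8 hk (by norm_num)), ?_⟩
  · have h1 := hord a ha ha1
    have h3 : orderOf x8 = orderOf a := by
      obtain ⟨c, rfl⟩ := isConj_iff.1 h
      exact ((MulAut.conj c).orderOf_eq x8).symm
    rw [o8, h1] at h3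
    norm_num at h3
  · -- the characters vanishing on both
    have hc1 := le_ncard_compl (m := 2) hA he (by norm_num) (by rw [cA]) hk
    have hc3 : ({χ : IrrCharacter Cfsg.Spor.He | (χ : Cfsg.Spor.He → ℂ) x8 ≠ 0}).ncard ≤ 16 := hnv8
    set Z : Set (IrrCharacter Cfsg.Spor.He) :=
      ((NV (Subgroup.zpowers (wd W17)))ᶜ : Set (IrrCharacter Cfsg.Spor.He)) \
        {χ | (χ : Cfsg.Spor.He → ℂ) x8 ≠ 0} with hZ
    have hc2 : 3 ≤ Z.ncard := by
      have h4 := Set.le_ncard_sdiff {χ : IrrCharacter Cfsg.Spor.He | (χ : Cfsg.Spor.He → ℂ) x8 ≠ 0}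
        ((NV (Subgroup.zpowers (wd W17)))ᶜ) (Set.toFinite _)
      rw [hZ]
      omega
    have hZc : Z.toFinset.card = Z.ncard := (Set.ncard_eq_toFinset_card' Z).symm
    have hna : ¬ IsMulCommutative Cfsg.Spor.He := by
      intro h
      have h1 : Subgroup.centralizer ({wd W17} : Set Cfsg.Spor.He) = ⊤ := by
        rw [eq_top_iff]
        intro y _
        rw [Subgroup.mem_centralizer_singleton_iff]
        exact h.is_comm.comm y _
      have h3 := card_cent_eq
      rw [h1, Nat.card_congr Subgroup.topEquiv.toEquiv, card_he] at h3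
      norm_num at h3
    refine row2_of_half (Cfsg.Agent.H489.card_out_sporadic (by
      simp only [IsSporadicGroup, hiso, true_or, or_true])) fun G _ _ N _ hN e => ?_
    refine two_of_over_many N e Z.toFinset (by rw [hN, hZc]; omega) fun θ hθ χ hχ => ?_
    rw [Set.mem_toFinset] at hθ
    have z17 : (θ : Cfsg.Spor.He → ℂ) (wd W17) = 0 :=
      apply_eq_zero_of_compl hθ.1 (Subgroup.mem_zpowers _) (by
        intro h
        have := o17
        rw [h, orderOf_one] at this
        norm_num at this)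
    have z8 : (θ : Cfsg.Spor.He → ℂ) x8 = 0 := not_not.1 hθ.2
    have hev : 2 ∣ charDegree (θ : Cfsg.Spor.He → ℂ) :=
      Cfsg.Agent.S4558.result 2 _ (Cfsg.Agent.Characters.Core.isIrr_isCharacter θ.2) x8 ⟨3, o8⟩ z8
    have hd17 : 17 ∣ charDegree (θ : Cfsg.Spor.He → ℂ) :=
      Cfsg.Agent.S4558.result 17 _ (Cfsg.Agent.Characters.Core.isIrr_isCharacter θ.2) (wd W17) ⟨1, o17⟩ z17
    have f17 : (Nat.card Cfsg.Spor.He).factorization 17 = 1 := by
      rw [card_he]; exact factorization_eq_one (by norm_num) (by norm_num)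
    have hdvd : charDegree (θ : Cfsg.Spor.He → ℂ) ∣ Nat.card Cfsg.Spor.He :=
      Cfsg.Agent.Blocks.Knorr.charDegree_dvd θ.2
    have hdz : (charDegree (θ : Cfsg.Spor.He → ℂ)).factorization 17 = (Nat.card Cfsg.Spor.He).factorization 17 := by
      refine le_antisymm ((Nat.factorization_le_iff_dvd (by
        intro h
        rw [h] at hdvd
        exact absurd (Nat.eq_zero_of_zero_dvd hdvd) Nat.card_pos.ne') Nat.card_pos.ne').2 hdvd 17) ?_
      rw [f17]
      exact (Nat.Prime.dvd_iff_one_le_factorization (by norm_num) (by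
        intro h
        rw [h] at hdvd
        exact absurd (Nat.eq_zero_of_zero_dvd hdvd) Nat.card_pos.ne')).1 hd17
    exact zc_of_over hN e hna (fun φ => dz_zero hdz (by rw [o17]) φ) hχ fun hext =>
      zc_of_even hN e hev (fun φ h => by
        have h1 := congrArg orderOf h
        rw [MulEquiv.orderOf_eq, o17, o8] at h1
        norm_num at h1) z17 z8 hext

/-- **`He`** -/
theorem he {S : Type} [Group S] (h : Cfsg.Spor.IsoHe S) : RowT S := by
  obtain ⟨e⟩ := h
  have hfin : Finite Cfsg.Spor.He := finite_he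
  have : Finite S := Finite.of_equiv _ e.symm.toEquiv
  exact RowT.of_equiv e he_model

end Cfsg.Agent.H713.Two.HeRow
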