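import Cfsg.Agent.H409.FprCycSm
import Cfsg.Agent.H713.Two.Sing
import Cfsg.Agent.H621.Zer.Main

/-!
# Orthogonal groups over the field with two elements: elements of order 17 (helper713, for S4897)
-/

set_option autoImplicit false
set_option linter.unusedSectionVars false

namespace Cfsg.Agent.H713.Two.OTwo

open Module Subgroup QuadraticMap Cfsg
open Cfsg.Agent.LieClassical.OrthCore Cfsg.Agent.LieClassical.OrthTrans Cfsg.Agent.LieClassical.OrthForms
open Cfsg.Agent.H409.Cyc Cfsg.Agent.H504.Zeros Cfsg.Agent.H504.TwoZ Cfsg.Agent.H713.Count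

section

variable {F : Type} [Field F] [Fintype F] {ι : Type} [Fintype ι] [DecidableEq ι] {Q : QuadraticForm F (ι → F)}

theorem center_eq_bot (hG : Good Q) (hF : Fintype.card F = 2) : Subgroup.center (E Q) = ⊥ := by
  classical
  rw [eq_bot_iff]
  intro z hz
  obtain ⟨c, hc⟩ := Cfsg.Agent.H75.OrthIdx.center_scalar hG hz
  rw [Subgroup.mem_bot]
  apply Subtype.ext
  apply LinearEquiv.ext
  intro v
  have h1 : c = 1 := by
    by_contra hne
    have h0 : c = 0 := by
      by_contra h0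
      have h3 : ({0, 1, c} : Finset F).card = 3 := by
        rw [Finset.card_insert_of_notMem, Finset.card_insert_of_notMem, Finset.card_singleton]
        · simpa using fun h => hne h.symm
        · simp only [Finset.mem_insert, Finset.mem_singleton, not_or]
          exact ⟨zero_ne_one, fun h => h0 h.symm⟩
      have h4 := Finset.card_le_univ ({0, 1, c} : Finset F)
      rw [h3, hF] at h4
      omega
    obtain ⟨u, w, huw⟩ := hG.exists_hyp
    have h5 := huw.pair
    have h6 := polar_map (E_le_O z.2) u w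
    rw [hc, hc, h0, zero_smul, zero_smul, h5] at h6
    have h7 : polar Q (0 : ι → F) 0 = 0 := by simp [polar]
    rw [h7] at h6
    exact zero_ne_one h6
  show (z : (ι → F) ≃ₗ[F] (ι → F)) v = v
  rw [hc, h1, one_smul]

/-- the simple group as a group of isometries -/
noncomputable def iso (hG : Good Q) (hF : Fintype.card F = 2) : E Q ≃* Cfsg.POmega F ⇑Q :=
  MulEquiv.ofBijective (Cfsg.Agent.H75.OrthIdx.omHom hG)
    ⟨(MonoidHom.ker_eq_bot_iff _).1 (by rw [Cfsg.Agent.H75.OrthIdx.omHom_ker, center_eq_bot hG hF]),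
      Cfsg.Agent.H75.OrthIdx.omHom_surjective hG⟩

theorem finite_E : Finite (E Q) := Finite.of_injective
  (fun g : E Q => ((g : (ι → F) ≃ₗ[F] (ι → F)) : (ι → F) → (ι → F))) (by
    intro a b hab
    exact Subtype.ext (DFunLike.coe_injective hab))

theorem card_centralizer_congr {S T : Type*} [Group S] [Group T] (e : S ≃* T) (x : S) :
    Nat.card (centralizer ({e x} : Set T)) = Nat.card (centralizer ({x} : Set S)) := by
  refine (Nat.card_congr (Equiv.subtypeEquiv e.toEquiv fun a => ?_)).symm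
  rw [mem_centralizer_singleton_iff, mem_centralizer_singleton_iff]
  show a * x = x * a ↔ e a * e x = e x * e a
  rw [← map_mul, ← map_mul, e.injective.eq_iff]

theorem cent_le (hG : Good Q) (hF : Fintype.card F = 2) {p e c : ℕ} (hp : p.Prime) (hodd : p ≠ 2) (hch : (p : F) ≠ 0)
    (he : ∀ k, p ∣ Fintype.card F ^ k - 1 → e ∣ k) (hdim : finrank F (ι → F) < 2 * e)
    (hC : ∀ x : E Q, Sit (rhoE Q) p e x → Nat.card (centralizer ({x} : Set (E Q))) ≤ c)
    {x : Cfsg.POmega F ⇑Q} (hx : orderOf x = p) : Nat.card (centralizer ({x} : Set (Cfsg.POmega F ⇑Q))) ≤ c := by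
  have := finite_E (Q := Q)
  obtain ⟨y, rfl⟩ := (iso hG hF).surjective x
  rw [MulEquiv.orderOf_eq] at hx
  rw [card_centralizer_congr]
  exact hC y ⟨rhoE_inj, hx, hp, hodd, hch, he, hdim⟩

theorem he17 (hF : Fintype.card F = 2) (k : ℕ) (h : 17 ∣ Fintype.card F ^ k - 1) : 8 ∣ k := by
  rw [hF] at h
  have h1 : 1 ≤ 2 ^ k := Nat.one_le_two_pow
  have h2 : 2 ^ k % 17 = 1 := by
    obtain ⟨m, hm⟩ := h
    omega
  have h3 : 2 ^ k % 17 = 2 ^ (k % 8) % 17 := by
    conv_lhs => rw [← Nat.div_add_mod k 8, pow_add, pow_mul, Nat.mul_mod, Nat.pow_mod]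
    norm_num
  rw [h3] at h2
  have h4 : k % 8 < 8 := Nat.mod_lt _ (by norm_num)
  apply Nat.dvd_of_mod_eq_zero
  interval_cases hk : (k % 8) <;> simp_all

theorem h17 (hF : Fintype.card F = 2) : ((17 : ℕ) : F) ≠ 0 := by
  intro h
  have h1 : ringChar F ∣ 17 := (ringChar.spec F 17).1 h
  have h2 : (2 : F) = 0 := by
    have := Nat.cast_card_eq_zero (R := F)
    rw [hF] at this
    exact_mod_cast this
  have h3 : ringChar F ∣ 2 := (ringChar.spec F 2).1 (by exact_mod_cast h2)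
  have h4 : ringChar F ∣ 1 := by
    have := Nat.dvd_gcd h1 h3
    simpa using this
  have h5 := CharP.char_is_prime F (ringChar F)
  exact h5.one_lt.ne' (Nat.dvd_one.1 h4)

open Cfsg.Agent.H621.Zer Matrix Cfsg.Agent.ClassicalGeometry.Reflection in
/-- nine classes of elements of even order -/
theorem exists_nine [CharP F 2] (D : Cfsg.Agent.H621.Zer.Emb Q)
    (hQ : (polarBilin Q).Nondegenerate) (hn : 5 ≤ Fintype.card ι) (hs : ∃ u : ι → F, u ≠ 0 ∧ Q u = 0) :
    ∃ g : Fin 9 → Cfsg.POmega F ⇑Q, (∀ i, 2 ∣ orderOf (g i)) ∧ ∀ i j, IsConj (g i) (g j) → i = j := by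
  have h2 : (2 : F) = 0 := CharTwo.two_eq_zero
  have hP : ∀ (u v : ι → F) (hu : Q u ≠ 0) (hv : Q v ≠ 0), Q u = Q v →
      reflIso Q u hu * reflIso Q v hv ∈ Cfsg.Omega F (⇑Q) := fun u v hu hv _ =>
    Cfsg.Agent.ClassicalGeometry.OrthDickson.refl_mul_refl_mem_two Q h2 hQ (Or.inr (by omega)) u v hu hv
  have hn' : 3 ≤ Fintype.card ι := by omega
  obtain ⟨t, ht, h⟩ : ∃ t : Fin 9 → ℕ × ℕ × ℕ, Function.Injective t ∧ ∀ i, TwoEl Q (t i) := by
    refine ⟨![(0, 0, 2), (0, 0, 4), (2, 0, 4), (2, 1, 4), (2, 2, 2), (4, 4, 2), (4, 4, 4), (4, 3, 6), (4, 3, 4)],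
      by decide, ?_⟩
    intro i
    fin_cases i
    · exact Z0_el D (ZMod.castHom (dvd_refl 2) F) hP hQ hn' hs
    · exact Z1_el D (ZMod.castHom (dvd_refl 2) F) hP hQ hn' hs
    · exact Z2_el D (ZMod.castHom (dvd_refl 2) F) hP hQ hn' hs
    · exact Z3_el D (ZMod.castHom (dvd_refl 2) F) hP hQ hn' hs
    · exact Z4_el D (ZMod.castHom (dvd_refl 2) F) hP hQ hn' hs
    · exact Z5_el D (ZMod.castHom (dvd_refl 2) F) hP hQ hn' hs
    · exact Z6_el D (ZMod.castHom (dvd_refl 2) F) hP hQ hn' hs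
    · exact Z7_el D (ZMod.castHom (dvd_refl 2) F) hP hQ hn' hs
    · exact Z8_el D (ZMod.castHom (dvd_refl 2) F) hP hQ hn' hs
  choose g h0 h1 h2' h3 using h
  exact ⟨fun i => (QuotientGroup.mk (g i) : Cfsg.POmega F (⇑Q)), h0, fun i j hc =>
    ht (two_distinct h2 hQ hn' hs (h1 i) (h2' i) (h3 i) (h1 j) (h2' j) (h3 j) hc)⟩

end

end Cfsg.Agent.H713.Two.OTwo
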